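import Cfsg.Agent.H614.GU.Fld
import Cfsg.Agent.H623.GU.Geo

/-!
# S4537, F2 in the form of `H623/GU/Geo.lean`: `FOdd`, `FEven`
-/

set_option autoImplicit false

open Polynomial

namespace Cfsg.Agent.H614.GU

open Cfsg.Agent.H614.GLn Cfsg.Agent.H615.GU Cfsg.Agent.H505.S4536.Ext Cfsg.Agent.H623.GU

universe u

variable {F K : Type u} [Field F] [Field K] [Algebra F K] {θ : K →*₀ ℂ} {N M q p : ℕ}

/-- **F2, odd case** -/
theorem exists_fodd (hctx : Ctx F θ N M) (hF : Nat.card F = q ^ 2) (hp : p.Prime)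
    (hu : IsUnit ((-(q : ℤ) : ℤ) : ZMod p)) (s : ℕ) {f : ℕ} (hf : f = orderOf ((-(q : ℤ) : ℤ) : ZMod p) * p ^ s)
    (hN : f ≤ N) (hodd : Odd f) :
    ∃ (E : Type u) (_ : Field E) (_ : Finite E) (_ : Algebra F E) (_ : Algebra E K) (z : Eˣ),
      FOdd F K q p f E z ∧ Nat.card E = (q ^ f) ^ 2 ∧ (∀ k, f * k ≤ N → Ctx E θ k M) ∧
      ∀ k, f * k ≤ N → CtxQ θ (-((q ^ f : ℕ) : ℤ)) M k := by
  obtain ⟨E, z, h1, h2, h3, h4, h5, h6, h7, h8, h9⟩ := odd_data hctx hF hp hu s hf hN hodd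
  refine ⟨E, inferInstance, h2, inferInstance, inferInstance, z, ⟨inferInstance, h1, h3, h4, h6, h5, h7⟩, ?_, h8, h9⟩
  rw [Module.natCard_eq_pow_finrank (K := F) (V := E), h1, hF, ← pow_mul, ← pow_mul, mul_comm]

/-- **F2, even case** -/
theorem exists_feven (hctx : Ctx F θ N M) (hF : Nat.card F = q ^ 2) (hp : p.Prime)
    (hu : IsUnit ((-(q : ℤ) : ℤ) : ZMod p)) (s : ℕ) {g : ℕ}
    (hf : 2 * g = orderOf ((-(q : ℤ) : ℤ) : ZMod p) * p ^ s) (hN : 2 * g ≤ N) :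
    ∃ (E : Type u) (_ : Field E) (_ : Finite E) (_ : Algebra F E) (_ : Algebra E K) (z : Eˣ),
      FEven F K q p g E z ∧ Nat.card E = q ^ (2 * g) ∧ (∀ k, g * k ≤ N → Ctx E θ k M) ∧
      ∀ k, g * k ≤ N → CtxQ θ ((-(q : ℤ)) ^ (2 * g)) M k := by
  obtain ⟨E, z, h1, h2, h3, h4, h5, h6, h7, h8, h9, h10⟩ := even_data hctx hF hp hu s hf hN
  exact ⟨E, inferInstance, h2, inferInstance, inferInstance, z, ⟨inferInstance, h1, h3, h4, h6, h5, h7⟩, h8, h9, h10⟩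

end Cfsg.Agent.H614.GU
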