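import Cfsg.Agent.H505.S4536.Ext
import Cfsg.Agent.H120.GLB.Ctx
import Cfsg.Agent.H421.GU.Orb
import Cfsg.Agent.H615.GU.Grp

/-!
# S4537, F2: fields and contexts

* `ctxQ_of_ctx`, `ctxQ_card` : `CtxQ` from `Ctx`;
* `exists_ctx_dvd` : a context with `p ∣ M`;
* `exists_z` : a `p`-element with `Q`-orbit of size `f = orderOf (Q : ZMod p) * p ^ s`;
* `odd_data`, `even_data` : the extensions of `F`, `|F| = q ^ 2`, `Q = -q`.
-/

set_option autoImplicit false

open Polynomial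

namespace Cfsg.Agent.H614.GU

open Cfsg.Agent.H614.GLn Cfsg.Agent.H615.GU Cfsg.Agent.H505.S4536.Ext

universe u

/-! ### arithmetic -/

section arith

variable {Q : ℤ} {p : ℕ}

theorem dvdZ_iff (n : ℕ) : (p : ℤ) ∣ Q ^ n - 1 ↔ orderOf (Q : ZMod p) ∣ n := by
  rw [orderOf_dvd_iff_pow_eq_one, ← ZMod.intCast_zmod_eq_zero_iff_dvd]
  push_cast
  rw [sub_eq_zero]

theorem orderOfZ_pos (hp : p.Prime) (hu : IsUnit (Q : ZMod p)) : 0 < orderOf (Q : ZMod p) := by
  have : NeZero p := ⟨hp.ne_zero⟩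
  obtain ⟨w, hw⟩ := hu
  rw [← hw, orderOf_units]
  exact orderOf_pos w

theorem pow_sub_one_ne_zero (hQ : 2 ≤ |Q|) {n : ℕ} (hn : 0 < n) : Q ^ n - 1 ≠ 0 := by
  intro h
  have h1 : |Q| ^ n = 1 := by
    rw [← abs_pow, sub_eq_zero.1 h, abs_one]
  have h2 : |Q| ^ 1 ≤ |Q| ^ n := pow_le_pow_right₀ (by omega) hn
  rw [h1, pow_one] at h2
  omega

theorem pow_sub_one_dvd (Q : ℤ) {a b : ℕ} (h : a ∣ b) : Q ^ a - 1 ∣ Q ^ b - 1 := by
  obtain ⟨c, rfl⟩ := h
  rw [pow_mul]
  simpa using sub_dvd_pow_sub_pow (Q ^ a) 1 c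

theorem arithZ (hQ : 2 ≤ |Q|) (hp : p.Prime) (hu : IsUnit (Q : ZMod p)) (s f' : ℕ)
    (hf' : f' ∣ orderOf (Q : ZMod p) * p ^ s)
    (h : ((p ^ (padicValInt p (Q ^ (orderOf (Q : ZMod p) * p ^ s) - 1)) : ℕ) : ℤ) ∣ Q ^ f' - 1) :
    f' = orderOf (Q : ZMod p) * p ^ s := by
  have : Fact p.Prime := ⟨hp⟩
  have he := orderOfZ_pos hp hu
  obtain ⟨e, hee⟩ : ∃ e, e = orderOf (Q : ZMod p) := ⟨_, rfl⟩
  rw [← hee] at hf' h he ⊢
  have hf0 : 0 < e * p ^ s := Nat.mul_pos he (Nat.pow_pos hp.pos)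
  have hne := pow_sub_one_ne_zero hQ hf0
  have h1 : (p : ℤ) ∣ Q ^ (e * p ^ s) - 1 := by
    rw [dvdZ_iff, ← hee]
    exact dvd_mul_right _ _
  have ha : 0 < padicValInt p (Q ^ (e * p ^ s) - 1) := by
    rw [padicValInt]
    exact Nat.pos_of_ne_zero ((dvd_iff_padicValNat_ne_zero (Int.natAbs_ne_zero.2 hne)).mp (Int.natCast_dvd.1 h1))
  have h2 : (p : ℤ) ∣ Q ^ f' - 1 := (by
    rw [Nat.cast_pow]; exact dvd_pow_self (p : ℤ) ha.ne' : (p : ℤ) ∣ _).trans h
  rw [dvdZ_iff, ← hee] at h2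
  obtain ⟨f'', rfl⟩ := h2
  have h3 : f'' ∣ p ^ s := Nat.dvd_of_mul_dvd_mul_left he hf'
  obtain ⟨i, hi, rfl⟩ := (Nat.dvd_prime_pow hp).mp h3
  rcases Nat.lt_or_ge i s with hlt | hge
  · exfalso
    obtain ⟨t, rfl⟩ : ∃ t, s = t + 1 := ⟨s - 1, by omega⟩
    have h4 : Q ^ (e * p ^ i) - 1 ∣ Q ^ (e * p ^ t) - 1 :=
      pow_sub_one_dvd Q (Nat.mul_dvd_mul_left _ (pow_dvd_pow p (by omega)))
    have h5 := h.trans h4
    obtain ⟨y, hy⟩ : ∃ y : ℤ, y = Q ^ (e * p ^ t) := ⟨_, rfl⟩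
    obtain ⟨a, hae⟩ : ∃ a, a = padicValInt p (Q ^ (e * p ^ (t + 1)) - 1) := ⟨_, rfl⟩
    rw [← hae, ← hy] at h5
    have h6 : ((p : ℤ)) ^ a ∣ y - 1 := by
      rwa [Nat.cast_pow] at h5
    have h8 : (p : ℤ) ∣ ∑ j ∈ Finset.range p, y ^ j := by
      rw [← ZMod.intCast_zmod_eq_zero_iff_dvd]
      have h9 : (y : ZMod p) = 1 := by
        have h10 : (p : ℤ) ∣ y - 1 := by
          refine (dvd_pow_self (p : ℤ) ?_).trans h6
          rw [hae]
          exact ha.ne'
        have h11 := (ZMod.intCast_zmod_eq_zero_iff_dvd (y - 1) p).mpr h10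
        push_cast at h11
        exact sub_eq_zero.mp h11
      push_cast
      rw [h9]
      simp
    have h12 : (p : ℤ) ^ (a + 1) ∣ Q ^ (e * p ^ (t + 1)) - 1 := by
      have h13 : Q ^ (e * p ^ (t + 1)) = y ^ p := by
        rw [hy, ← pow_mul]
        congr 1
        ring
      rw [h13, ← geom_sum_mul y p, pow_succ, mul_comm]
      exact mul_dvd_mul h8 h6
    have h14 : p ^ (a + 1) ∣ (Q ^ (e * p ^ (t + 1)) - 1).natAbs := by
      rw [← Int.natCast_dvd_natCast, Nat.cast_pow, Int.dvd_natAbs]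
      exact h12
    rw [hae, padicValInt] at h14
    exact pow_succ_padicValNat_not_dvd (Int.natAbs_ne_zero.2 hne) h14
  · have : i = s := by omega
    rw [this]

end arith

/-! ### contexts -/

section ctx

variable {F : Type u} [Field F] {K : Type u} [Field K] [Algebra F K] {θ : K →*₀ ℂ} {N M : ℕ}

theorem isUnit_of_ctx (hctx : Ctx F θ N M) {q a : ℕ} (ha : 0 < a) (hF : Nat.card F = q ^ a) : (q : ℕ).Coprime M := by
  have := hctx.finF
  have := hctx.finK
  have h1 : Nat.card K = Nat.card F ^ Module.finrank F K := Module.natCard_eq_pow_finrank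
  have h2 : Nat.card Kˣ = Nat.card K - 1 := Nat.card_units K
  have h3 : 0 < Nat.card K := Nat.card_pos
  have : Module.Finite F K := Module.Finite.of_finite
  have hr : 0 < Module.finrank F K := Module.finrank_pos
  rw [← hctx.card, h2, h1, hF, ← pow_mul]
  have h4 : 0 < q ^ (a * Module.finrank F K) := by
    rw [pow_mul, ← hF, ← h1]; exact h3
  have h5 : Nat.Coprime (q ^ (a * Module.finrank F K)) (q ^ (a * Module.finrank F K) - 1) := by
    exact (Nat.coprime_self_sub_right (m := 1) (n := q ^ (a * Module.finrank F K)) h4).2 (Nat.coprime_one_right _)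
  exact Nat.Coprime.coprime_dvd_left (dvd_pow_self q (Nat.mul_pos ha hr).ne') h5

/-- the context for `GL` -/
theorem ctxQ_card (hctx : Ctx F θ N M) : CtxQ θ ((Nat.card F : ℕ) : ℤ) M N where
  finK := hctx.finK
  inj := hctx.inj
  card := hctx.card
  dvd k hk hkN := by
    have := hctx.finF
    have h1 : 1 ≤ Nat.card F ^ k := Nat.one_le_pow _ _ Nat.card_pos
    have h2 := Int.natCast_dvd_natCast.2 (hctx.dvd k hk hkN)
    rw [Nat.cast_sub h1] at h2
    push_cast at h2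
    exact h2
  unit := by
    have h := isUnit_of_ctx hctx (q := Nat.card F) one_pos (pow_one _).symm
    rw [Int.cast_natCast]
    exact (ZMod.isUnit_iff_coprime _ _).2 h
  two := by
    have := hctx.finF
    have h1 : 1 < Nat.card F := Finite.one_lt_card
    rw [Nat.abs_cast]
    exact_mod_cast h1

/-- the context for `GU` -/
theorem ctxQ_of_ctx (hctx : Ctx F θ N M) {q : ℕ} (hF : Nat.card F = q ^ 2) : CtxQ θ (-(q : ℤ)) M N where
  finK := hctx.finK
  inj := hctx.inj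
  card := hctx.card
  dvd k hk hkN := by
    have h1 := (ctxQ_card hctx).dvd k hk hkN
    refine dvd_trans ?_ h1
    rw [hF]
    push_cast
    rw [← neg_sq ((q : ℤ)), ← pow_mul]
    exact pow_sub_one_dvd _ (dvd_mul_left _ _)
  unit := by
    have h := isUnit_of_ctx hctx two_pos hF
    rw [Int.cast_neg, Int.cast_natCast]
    exact ((ZMod.isUnit_iff_coprime _ _).2 h).neg
  two := by
    have := hctx.finF
    have h1 : 1 < Nat.card F := Finite.one_lt_card
    rw [hF] at h1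
    rw [abs_neg, Nat.abs_cast]
    have h2 : q ≠ 0 := by rintro rfl; simp at h1
    have h3 : q ≠ 1 := by rintro rfl; simp at h1
    have h4 : 2 ≤ q := by omega
    exact_mod_cast h4

/-- a context with `p ∣ M` -/
theorem exists_ctx_dvd (F : Type u) [Field F] [Finite F] (N : ℕ) {p : ℕ} (hp : p.Prime)
    (hu : IsUnit ((Nat.card F : ℕ) : ZMod p)) :
    ∃ (K : Type u) (_ : Field K) (_ : Algebra F K) (θ : K →*₀ ℂ) (M : ℕ) (_ : NeZero M), Ctx F θ N M ∧ p ∣ M := by
  obtain ⟨K, i₁, i₂, θ, M, i₃, h⟩ := H120.GLB.Ctx.exists_ctx F (max N p)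
  refine ⟨K, i₁, i₂, θ, M, i₃, ⟨h.finF, h.finK, h.inj, fun f hf hd => h.spl f hf (hd.trans (le_max_left _ _)), h.card,
    fun d hd hdN => h.dvd d hd (hdN.trans (le_max_left _ _))⟩, ?_⟩
  have : Fact p.Prime := ⟨hp⟩
  have h1 := H505.S4536.Ext.orderOf_pos' hp hu
  have h2 : orderOf ((Nat.card F : ℕ) : ZMod p) ≤ p := by
    obtain ⟨w, hw⟩ := hu
    rw [← hw, orderOf_units]
    have h3 := orderOf_dvd_natCard w
    rw [Nat.card_eq_fintype_card, ZMod.card_units] at h3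
    have := Nat.le_of_dvd (by have := hp.two_le; omega) h3
    omega
  refine dvd_trans ?_ (h.dvd _ h1 (h2.trans (le_max_right _ _)))
  rw [H505.S4536.Ext.dvd_pow_sub_one_iff Finite.one_lt_card]

end ctx

/-! ### the element -/

section elt

variable {K : Type u} [Field K] {θ : K →*₀ ℂ} {Q : ℤ} {N M p : ℕ}

theorem pow_Q_iff {z : Kˣ} (i : ℕ) : z ^ (Q ^ i) = z ↔ ((orderOf z : ℕ) : ℤ) ∣ Q ^ i - 1 := by
  rw [orderOf_dvd_iff_zpow_eq_one, zpow_sub, zpow_one, mul_inv_eq_one]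

/-- **the `p`-element with orbit of size `f`** -/
theorem exists_z (ctx : CtxQ θ Q M N) (hp : p.Prime) (hu : IsUnit (Q : ZMod p)) (s : ℕ)
    (hN : orderOf (Q : ZMod p) * p ^ s ≤ N) :
    ∃ z : Kˣ, (∃ a : ℕ, orderOf z = p ^ a) ∧ z ≠ 1 ∧ ∀ i : ℕ, z ^ (Q ^ i) = z ↔ orderOf (Q : ZMod p) * p ^ s ∣ i := by
  have : Fact p.Prime := ⟨hp⟩
  have := ctx.finK
  have he := orderOfZ_pos hp hu
  obtain ⟨f, hf⟩ : ∃ f, f = orderOf (Q : ZMod p) * p ^ s := ⟨_, rfl⟩
  have hf0 : 0 < f := by rw [hf]; exact Nat.mul_pos he (Nat.pow_pos hp.pos)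
  have hne := pow_sub_one_ne_zero ctx.two hf0
  obtain ⟨a, ha⟩ : ∃ a, a = padicValInt p (Q ^ f - 1) := ⟨_, rfl⟩
  have hPd : p ^ a ∣ (Q ^ f - 1).natAbs := by
    rw [ha, padicValInt]; exact pow_padicValNat_dvd
  have hPM : p ^ a ∣ Nat.card Kˣ := by
    rw [ctx.card]
    refine hPd.trans ?_
    have h1 := ctx.dvd f hf0 (by rw [hf]; exact hN)
    exact Int.natCast_dvd_natCast.1 ((Int.natAbs_dvd).2 h1)
  have ha0 : a ≠ 0 := by
    rw [ha, padicValInt]
    refine (dvd_iff_padicValNat_ne_zero (Int.natAbs_ne_zero.2 hne)).mp (Int.natCast_dvd.1 ?_)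
    rw [dvdZ_iff, hf]
    exact dvd_mul_right _ _
  obtain ⟨g, hg⟩ := IsCyclic.exists_ofOrder_eq_natCard (α := Kˣ)
  obtain ⟨w, hw⟩ := hPM
  have hw0 : w ≠ 0 := by
    rintro rfl
    rw [mul_zero] at hw
    exact Nat.card_pos.ne' hw
  have hz : orderOf (g ^ w) = p ^ a := by
    rw [orderOf_pow_of_dvd hw0 (by rw [hg, hw]; exact dvd_mul_left _ _), hg, hw,
      Nat.mul_div_cancel _ (Nat.pos_of_ne_zero hw0)]
  refine ⟨g ^ w, ⟨a, hz⟩, ?_, fun i => ?_⟩
  · intro h1
    rw [h1, orderOf_one] at hz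
    exact (Nat.one_lt_pow ha0 hp.one_lt).ne hz
  · rw [pow_Q_iff, hz, ← hf]
    constructor
    · intro h1
      have h2 : ((p ^ a : ℕ) : ℤ) ∣ Q ^ f - 1 := Int.natCast_dvd.2 hPd
      have hg1 : ((p ^ a : ℕ) : ℤ) ∣ Q ^ (Nat.gcd f i) - 1 := by
        rw [← ZMod.intCast_zmod_eq_zero_iff_dvd] at h1 h2 ⊢
        push_cast at h1 h2 ⊢
        rw [sub_eq_zero] at h1 h2 ⊢
        rw [← orderOf_dvd_iff_pow_eq_one] at h1 h2 ⊢
        exact Nat.dvd_gcd h2 h1
      have h3 := arithZ ctx.two hp hu s (Nat.gcd f i) (by rw [← hf]; exact Nat.gcd_dvd_left f i)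
        (by rw [← hf, ← ha]; exact hg1)
      rw [← hf] at h3
      rw [← h3]
      exact Nat.gcd_dvd_right f i
    · intro h1
      exact (Int.natCast_dvd.2 hPd).trans (pow_sub_one_dvd Q h1)

theorem dOrb_of_period (ctx : CtxQ θ Q M N) {z : Kˣ} {f : ℕ} (h : ∀ i : ℕ, z ^ (Q ^ i) = z ↔ f ∣ i) :
    dOrb K Q (Quotient.mk (orbSetoid K Q) z) = f := by
  have := ctx.finK
  have h1 := fun k => (H421.GU.dOrb_dvd_iff ctx.card ctx.unit z k).trans (h k)
  exact Nat.dvd_antisymm ((h1 f).2 dvd_rfl) ((h1 _).1 dvd_rfl)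

end elt

/-! ### the extensions -/

section ext

variable {F : Type u} [Field F] {K : Type u} [Field K] [Algebra F K] {θ : K →*₀ ℂ} {N M p q : ℕ}

/-- the elements of the intermediate fields -/
theorem mem_of_pow [Finite K] (E : IntermediateField F K) {x : Kˣ} (h : x ^ (Nat.card E - 1) = 1) : (x : K) ∈ E := by
  have hE : Finite E := Finite.of_injective (fun x : E => (x : K)) Subtype.val_injective
  have hcE := Fintype.ofFinite E
  have hcK := Fintype.ofFinite K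
  classical
  -- the units of `E` are the solutions of `x ^ (|E| - 1) = 1`
  let ι : Eˣ →* Kˣ := Units.map (algebraMap E K : E →* K)
  have hι : Function.Injective ι := Units.map_injective (algebraMap E K).injective
  have h1 : (Finset.univ.image fun y : Eˣ => ι y) ⊆ Finset.univ.filter fun y : Kˣ => y ^ (Nat.card E - 1) = 1 := by
    intro y hy
    rw [Finset.mem_image] at hy
    obtain ⟨w, -, rfl⟩ := hy
    rw [Finset.mem_filter]
    refine ⟨Finset.mem_univ _, ?_⟩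
    rw [← map_pow, ← Nat.card_units, pow_card_eq_one', map_one]
  have h2 : (Finset.univ.filter fun y : Kˣ => y ^ (Nat.card E - 1) = 1).card ≤ Nat.card E - 1 := by
    have hpos : 0 < Nat.card E - 1 := by
      have : 1 < Nat.card E := Finite.one_lt_card
      omega
    exact IsCyclic.card_pow_eq_one_le hpos
  have h3 : (Finset.univ.image fun y : Eˣ => ι y).card = Nat.card E - 1 := by
    rw [Finset.card_image_of_injective _ hι, Finset.card_univ, ← Nat.card_eq_fintype_card, Nat.card_units]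
  have h4 := Finset.eq_of_subset_of_card_le h1 (by rw [h3]; exact h2)
  have h5 : x ∈ Finset.univ.image fun y : Eˣ => ι y := by
    rw [h4, Finset.mem_filter]
    exact ⟨Finset.mem_univ _, h⟩
  rw [Finset.mem_image] at h5
  obtain ⟨w, -, rfl⟩ := h5
  exact (w : E).2

/-- generation: if the period of `z` under `x ↦ x ^ |F|` is the degree of `E` then `z` generates `E` -/
theorem adjoin_eq_top [Finite F] [Finite K] (E : IntermediateField F K) (z : Eˣ)
    (h : ∀ i : ℕ, 0 < i → i ∣ Module.finrank F E →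
      (z : E) ^ (Nat.card F ^ i) = z → i = Module.finrank F E) : Algebra.adjoin F {(z : E)} = ⊤ := by
  have hE : Finite E := Finite.of_injective (fun x : E => (x : K)) Subtype.val_injective
  have : Module.Finite F E := Module.Finite.of_finite
  let L := IntermediateField.adjoin F {((z : Eˣ) : E)}
  have hzL : ((z : Eˣ) : E) ∈ L := IntermediateField.mem_adjoin_simple_self F _
  have hLd : Module.finrank F L ∣ Module.finrank F E := by
    rw [← Module.finrank_mul_finrank F L E]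
    exact dvd_mul_right _ _
  have hLfin : Finite L := Finite.of_injective (fun x : L => (x : E)) Subtype.val_injective
  have hpow : (z : E) ^ (Nat.card F ^ (Module.finrank F L)) = z := by
    have := Fintype.ofFinite L
    have h8 := FiniteField.pow_card (⟨(z : E), hzL⟩ : L)
    rw [← Nat.card_eq_fintype_card, Module.natCard_eq_pow_finrank (K := F) (V := L)] at h8
    exact congrArg (fun x : L => (x : E)) h8
  have h11 := h _ Module.finrank_pos hLd hpow
  have h12 : L = ⊤ := by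
    apply IntermediateField.eq_of_le_of_finrank_eq le_top
    rw [h11, IntermediateField.finrank_top']
  have h13 : L.toSubalgebra = Algebra.adjoin F {((z : Eˣ) : E)} :=
    IntermediateField.adjoin_simple_toSubalgebra_of_isAlgebraic (IsAlgebraic.of_finite F _)
  rw [← h13, h12]
  rfl

theorem exists_field_pos (hctx : Ctx F θ N M) {f : ℕ} (hf : 0 < f) (hfN : f ≤ N) :
    ∃ E : IntermediateField F K, Module.finrank F E = f ∧ Finite E := by
  have := hctx.finK
  obtain ⟨E, hE⟩ := exists_field hctx hf hfN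
  exact ⟨E, hE, Finite.of_injective (fun x : E => (x : K)) Subtype.val_injective⟩

/-- an element of the intermediate field as a unit -/
theorem exists_unit [Finite K] (E : IntermediateField F K) {z : Kˣ} (h : (z : K) ∈ E) :
    ∃ w : Eˣ, ((w : E) : K) = z ∧ Units.map (algebraMap E K : E →* K) w = z := by
  have h0 : (⟨(z : K), h⟩ : E) ≠ 0 := fun h1 => z.ne_zero (congrArg (fun x : E => (x : K)) h1)
  refine ⟨Units.mk0 _ h0, rfl, Units.ext rfl⟩

/-- **F2, odd case** -/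
theorem odd_data (hctx : Ctx F θ N M) (hF : Nat.card F = q ^ 2) (hp : p.Prime) (hu : IsUnit ((-(q : ℤ) : ℤ) : ZMod p))
    (s : ℕ) {f : ℕ} (hf : f = orderOf ((-(q : ℤ) : ℤ) : ZMod p) * p ^ s) (hN : f ≤ N) (hodd : Odd f) :
    ∃ (E : IntermediateField F K) (z : Eˣ), Module.finrank F E = f ∧ Finite E ∧ (∃ a : ℕ, orderOf z = p ^ a) ∧ z ≠ 1 ∧
      Algebra.adjoin F {(z : E)} = ⊤ ∧ z ^ (q ^ f + 1) = 1 ∧
      (∀ i : ℕ, (Units.map (algebraMap E K : E →* K) z) ^ ((-(q : ℤ)) ^ i) = Units.map (algebraMap E K : E →* K) z ↔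
        f ∣ i) ∧
      (∀ k, f * k ≤ N → Ctx E θ k M) ∧ ∀ k, f * k ≤ N → CtxQ θ (-((q ^ f : ℕ) : ℤ)) M k := by
  have := hctx.finF
  have := hctx.finK
  have hQ := ctxQ_of_ctx hctx hF
  have hf0 : 0 < f := hodd.pos
  obtain ⟨z₀, ⟨a, ha⟩, hz1, hper⟩ := exists_z hQ hp hu s (by rw [← hf]; exact hN)
  rw [← hf] at hper
  obtain ⟨E, hE, hEf⟩ := exists_field_pos hctx hf0 hN
  have hcE : Nat.card E = (q ^ f) ^ 2 := by
    rw [Module.natCard_eq_pow_finrank (K := F) (V := E), hE, hF, ← pow_mul, ← pow_mul, mul_comm]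
  have hq0 : 0 < q := Nat.pos_of_ne_zero (by
    rintro rfl
    have : 0 < Nat.card F := Nat.card_pos
    rw [hF] at this
    simp at this)
  have hpowf : z₀ ^ (q ^ f + 1) = 1 := by
    have h1 := (hper f).2 dvd_rfl
    rw [hodd.neg_pow] at h1
    have h2 : z₀ ^ (-((q : ℤ) ^ f)) * (z₀ ^ (((q : ℤ) ^ f))) = 1 := by rw [← zpow_add]; simp
    rw [h1] at h2
    have h3 : z₀ ^ ((q : ℤ) ^ f) = z₀ ^ (q ^ f) := by
      rw [← zpow_natCast]; push_cast; rfl
    rw [h3] at h2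
    rw [pow_succ', h2]
  have hmem : (z₀ : K) ∈ E := by
    apply mem_of_pow
    rw [hcE]
    have h1 : (q ^ f) ^ 2 - 1 = (q ^ f + 1) * (q ^ f - 1) := by
      have h2 : 1 ≤ q ^ f := Nat.one_le_pow _ _ hq0
      obtain ⟨w, hw⟩ : ∃ w, q ^ f = w + 1 := ⟨q ^ f - 1, by omega⟩
      rw [hw]
      have : (w + 1) ^ 2 - 1 = (w + 1 + 1) * w := by
        have h3 : (w + 1) ^ 2 = (w + 1 + 1) * w + 1 := by ring
        omega
      rw [this]
      congr 1
    rw [h1, pow_mul, hpowf, one_pow]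
  obtain ⟨z, hz, hz'⟩ := exists_unit E hmem
  have hinj : Function.Injective (Units.map (algebraMap E K : E →* K)) :=
    Units.map_injective (algebraMap E K).injective
  refine ⟨E, z, hE, hEf, ⟨a, ?_⟩, ?_, ?_, ?_, ?_, fun k hk => ctx_ext hctx E (by rwa [hE]), fun k hk =>
    ctxQ_of_ctx (ctx_ext hctx E (k := k) (by rwa [hE])) hcE⟩
  · rw [← orderOf_injective _ hinj, hz', ha]
  · rintro rfl
    rw [map_one] at hz'
    exact hz1 hz'.symm
  · apply adjoin_eq_top
    intro i hi0 hi h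
    rw [hE] at hi ⊢
    have h1 : z₀ ^ ((-(q : ℤ)) ^ (2 * i)) = z₀ := by
      have h2 : (z : E) ^ (Nat.card F ^ i) = z := h
      have h3 : z ^ (Nat.card F ^ i) = z := Units.ext (by push_cast; exact h2)
      have h4 := congrArg (Units.map (algebraMap E K : E →* K)) h3
      rw [map_pow, hz', hF] at h4
      rw [pow_mul, neg_sq]
      have h5 : ((q : ℤ) ^ 2) ^ i = (((q ^ 2) ^ i : ℕ) : ℤ) := by push_cast; rfl
      rw [h5, zpow_natCast]
      exact h4
    have h6 := (hper _).1 h1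
    have h7 : f ∣ i := (Nat.Coprime.dvd_mul_left (Nat.coprime_two_right.2 hodd)).1 h6
    exact Nat.dvd_antisymm hi h7
  · apply hinj
    rw [map_pow, hz', hpowf, map_one]
  · intro i
    rw [hz']
    exact hper i

/-- **F2, even case** -/
theorem even_data (hctx : Ctx F θ N M) (hF : Nat.card F = q ^ 2) (hp : p.Prime) (hu : IsUnit ((-(q : ℤ) : ℤ) : ZMod p))
    (s : ℕ) {g : ℕ} (hf : 2 * g = orderOf ((-(q : ℤ) : ℤ) : ZMod p) * p ^ s) (hN : 2 * g ≤ N) :
    ∃ (E : IntermediateField F K) (z : Eˣ), Module.finrank F E = g ∧ Finite E ∧ (∃ a : ℕ, orderOf z = p ^ a) ∧ z ≠ 1 ∧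
      Algebra.adjoin F {(z : E)} = ⊤ ∧ (∀ i : ℕ, (z⁻¹) ^ q ≠ z ^ ((q ^ 2) ^ i)) ∧
      (∀ i : ℕ, (Units.map (algebraMap E K : E →* K) z) ^ ((-(q : ℤ)) ^ i) = Units.map (algebraMap E K : E →* K) z ↔
        2 * g ∣ i) ∧
      Nat.card E = q ^ (2 * g) ∧ (∀ k, g * k ≤ N → Ctx E θ k M) ∧
      ∀ k, g * k ≤ N → CtxQ θ ((-(q : ℤ)) ^ (2 * g)) M k := by
  have := hctx.finF
  have := hctx.finK
  have hQ := ctxQ_of_ctx hctx hF
  have hf0 : 0 < 2 * g := by
    rw [hf]; exact Nat.mul_pos (orderOfZ_pos hp hu) (Nat.pow_pos hp.pos)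
  have hg0 : 0 < g := by omega
  obtain ⟨z₀, ⟨a, ha⟩, hz1, hper⟩ := exists_z hQ hp hu s (by rw [← hf]; exact hN)
  rw [← hf] at hper
  obtain ⟨E, hE, hEf⟩ := exists_field_pos hctx hg0 (by omega)
  have hcE : Nat.card E = q ^ (2 * g) := by
    rw [Module.natCard_eq_pow_finrank (K := F) (V := E), hE, hF, ← pow_mul]
  have hq0 : 0 < q := Nat.pos_of_ne_zero (by
    rintro rfl
    have : 0 < Nat.card F := Nat.card_pos
    rw [hF] at this
    simp at this)
  have hpowZ : ∀ i : ℕ, z₀ ^ ((-(q : ℤ)) ^ (2 * i)) = z₀ ^ ((q ^ 2) ^ i) := by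
    intro i
    rw [pow_mul, neg_sq]
    have h5 : ((q : ℤ) ^ 2) ^ i = (((q ^ 2) ^ i : ℕ) : ℤ) := by push_cast; rfl
    rw [h5, zpow_natCast]
  have hmem : (z₀ : K) ∈ E := by
    apply mem_of_pow
    rw [hcE]
    have h1 := (hper (2 * g)).2 dvd_rfl
    rw [hpowZ, ← pow_mul] at h1
    have h2 : 1 ≤ q ^ (2 * g) := Nat.one_le_pow _ _ hq0
    have h3 : z₀ ^ (q ^ (2 * g) - 1) * z₀ = z₀ := by
      rw [← pow_succ, Nat.sub_add_cancel h2]; exact h1
    exact mul_eq_right.1 h3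
  obtain ⟨z, hz, hz'⟩ := exists_unit E hmem
  have hinj : Function.Injective (Units.map (algebraMap E K : E →* K)) :=
    Units.map_injective (algebraMap E K).injective
  refine ⟨E, z, hE, hEf, ⟨a, ?_⟩, ?_, ?_, ?_, ?_, hcE, fun k hk => ctx_ext hctx E (by rwa [hE]), fun k hk => ?_⟩
  · rw [← orderOf_injective _ hinj, hz', ha]
  · rintro rfl
    rw [map_one] at hz'
    exact hz1 hz'.symm
  · apply adjoin_eq_top
    intro i hi0 hi h
    rw [hE] at hi ⊢
    have h1 : z₀ ^ ((-(q : ℤ)) ^ (2 * i)) = z₀ := by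
      have h2 : (z : E) ^ (Nat.card F ^ i) = z := h
      have h3 : z ^ (Nat.card F ^ i) = z := Units.ext (by push_cast; exact h2)
      have h4 := congrArg (Units.map (algebraMap E K : E →* K)) h3
      rw [map_pow, hz', hF] at h4
      rw [hpowZ]
      exact h4
    have h6 := (hper _).1 h1
    exact Nat.dvd_antisymm hi (Nat.dvd_of_mul_dvd_mul_left two_pos h6)
  · intro i h
    have h4 := congrArg (Units.map (algebraMap E K : E →* K)) h
    rw [map_pow, map_pow, map_inv, hz'] at h4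
    have h5 : z₀ ^ ((-(q : ℤ)) ^ (2 * i)) = z₀ ^ (-(q : ℤ)) := by
      rw [hpowZ, ← h4, zpow_neg, zpow_natCast, inv_pow]
    have h6 : z₀ ^ ((-(q : ℤ)) ^ (2 * i + 2 * g)) = z₀ ^ ((-(q : ℤ)) ^ (2 * i)) := by
      rw [pow_add, mul_comm, zpow_mul, (hper (2 * g)).2 dvd_rfl]
    have h7 : z₀ ^ ((-(q : ℤ)) ^ (2 * i + 2 * g - 1)) = z₀ := by
      -- `x ↦ x ^ Q` is injective on `Kˣ`
      have hQc : Function.Injective fun x : Kˣ => x ^ (-(q : ℤ)) := by
        intro x y hxy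
        have h8 : (Nat.card Kˣ).Coprime q := by
          rw [hctx.card]; exact (isUnit_of_ctx hctx two_pos hF).symm
        have h9 : x ^ q = y ^ q := by
          have h10 : (x ^ q)⁻¹ = (y ^ q)⁻¹ := by simpa using hxy
          exact inv_injective h10
        exact (powCoprime h8).injective h9
      apply hQc
      show (z₀ ^ ((-(q : ℤ)) ^ (2 * i + 2 * g - 1))) ^ (-(q : ℤ)) = z₀ ^ (-(q : ℤ))
      rw [← zpow_mul, ← pow_succ, Nat.sub_add_cancel (by omega), h6, h5]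
    have h8 := (hper _).1 h7
    have h9 : 2 ∣ 2 * i + 2 * g - 1 := (dvd_mul_right 2 g).trans h8
    omega
  · intro i
    rw [hz']
    exact hper i
  · have h1 := ctxQ_card (ctx_ext hctx E (k := k) (by rwa [hE]))
    have h2 : ((Nat.card E : ℕ) : ℤ) = (-(q : ℤ)) ^ (2 * g) := by
      rw [hcE, pow_mul (-(q : ℤ)), neg_sq, ← pow_mul]
      push_cast; rfl
    rwa [h2] at h1

end ext

end Cfsg.Agent.H614.GU
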