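import Cfsg.Agent.H615.GU.Grp
import Cfsg.Agent.H809.GLB.Trn

/-!
# S4537, F1: from the kernel of the determinant on `GU n F q` to `SU n F q`

* `detU F n q : GU n F q →* Fˣ`, `suS F n q` : its kernel (`suS_normal`, `isCyclic_quot`);
* `suE : SU n F q ≃* suS F n q`;
* `su_of_suS` : transport of the bound `l(B) ≤ p ^ s`.
-/

set_option autoImplicit false

open Cfsg
open scoped MatrixGroups Matrix

namespace Cfsg.Agent.H614.GU

universe u

variable {F : Type u} [Field F] {n q : ℕ}

/-- the determinant on `GU n F q` -/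
noncomputable def detU (F : Type u) [Field F] (n q : ℕ) : Cfsg.GU n F q →* Fˣ :=
  (Matrix.GeneralLinearGroup.det : GL (Fin n) F →* Fˣ).comp (Cfsg.GU n F q).subtype

/-- the kernel of the determinant on `GU n F q` -/
noncomputable def suS (F : Type u) [Field F] (n q : ℕ) : Subgroup (Cfsg.GU n F q) := (detU F n q).ker

theorem mem_suS {x : Cfsg.GU n F q} : x ∈ suS F n q ↔ Matrix.GeneralLinearGroup.det (x : GL (Fin n) F) = 1 := Iff.rfl

instance suS_normal : (suS F n q).Normal := by unfold suS; infer_instance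

theorem mem_suS_of_det {x : Cfsg.GU n F q} (h : ((x : GL (Fin n) F) : Matrix (Fin n) (Fin n) F).det = 1) :
    x ∈ suS F n q := Units.ext h

/-- the quotient is cyclic -/
theorem isCyclic_quot [Finite F] : IsCyclic (Cfsg.GU n F q ⧸ suS F n q) :=
  isCyclic_of_injective (QuotientGroup.kerLift (detU F n q)) (QuotientGroup.kerLift_injective _)

theorem mem_GU_toGL {x : Matrix.SpecialLinearGroup (Fin n) F} :
    (Matrix.SpecialLinearGroup.toGL x : GL (Fin n) F) ∈ Cfsg.GU n F q ↔ x ∈ Cfsg.SU n F q := Iff.rfl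

/-- `SU n F q` is the kernel of the determinant on `GU n F q` -/
noncomputable def suE (F : Type u) [Field F] (n q : ℕ) : Cfsg.SU n F q ≃* suS F n q where
  toFun x := ⟨⟨Matrix.SpecialLinearGroup.toGL (x : Matrix.SpecialLinearGroup (Fin n) F), mem_GU_toGL.2 x.2⟩,
    mem_suS_of_det (x : Matrix.SpecialLinearGroup (Fin n) F).2⟩
  invFun y := ⟨⟨((y : Cfsg.GU n F q) : GL (Fin n) F), congrArg Units.val y.2⟩, fun u v => (y : Cfsg.GU n F q).2 u v⟩
  left_inv x := Subtype.ext (Subtype.ext rfl)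
  right_inv y := Subtype.ext (Subtype.ext (Units.ext rfl))
  map_mul' x y := Subtype.ext (Subtype.ext (by
    show Matrix.SpecialLinearGroup.toGL ((x * y : Cfsg.SU n F q) : Matrix.SpecialLinearGroup (Fin n) F) = _
    rw [Subgroup.coe_mul, map_mul]
    rfl))

theorem suE_apply (x : Cfsg.SU n F q) : (((suE F n q x : Cfsg.GU n F q) : GL (Fin n) F) : Matrix (Fin n) (Fin n) F) =
    ((x : Matrix.SpecialLinearGroup (Fin n) F) : Matrix (Fin n) (Fin n) F) := rfl

/-- **F1**: the bound for the kernel of the determinant gives the bound for `SU n F q` -/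
theorem su_of_suS [Finite F] {p : ℕ} {𝔐 : Ideal AlgInt}
    (h : ∀ (B : Set (IrrCharacter (suS F n q))), IsPBlock 𝔐 B → ∀ D : Subgroup (suS F n q), IsDefectGroup p 𝔐 B D →
      ∀ s : ℕ, SectionalPRankLE p s D → blockRank p B ≤ p ^ s)
    (B : Set (IrrCharacter (Cfsg.SU n F q))) (hB : IsPBlock 𝔐 B)
    (D : Subgroup (Cfsg.SU n F q)) (hD : IsDefectGroup p 𝔐 B D) (s : ℕ)
    (hs : SectionalPRankLE p s D) : blockRank p B ≤ p ^ s :=
  H809.GLB.rank_transport (suE F n q) h B hB D hD s hs

end Cfsg.Agent.H614.GU
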